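import Cfsg.Agent.Lib.TC.Enc

namespace Cfsg.Agent.Lib.CosetCert.D.OnM11.Lv0.CT

open Cfsg.Agent.Lib.TC.Enc

set_option maxRecDepth 100000

/-- The chunks of the certificate. -/
noncomputable def tree : Tr Nat :=
  (Tr.leaf (nat_lit 0x1dc00005696dea40f15413aac37000015a5b9a715cd314de96d400005696eaacaeb442f8a375000015a5b5a001d5400e691cc00005696ce6c1e7382769e2f000015a038a101bcf94be64a800005696d25c4692c52a9525000015a5b69d01b4d14964c8c0000568dadfcad5105237e61000015a5a1790313d04c5f084000056918e04ac908521775f000015a59f730303a00d6607c0256428002b40015a51f711e000015a3ed902b6c89479bd740000569675ac0bcd921f861d0035312000ad2b9401475a67000005685ca1cab8ce034945c000015a59c658b945c5762a6c00005696963cab6c22e0625bcdab51a000ad000568002b668016dc60002b4ab4bc000ad5a000015a59a5c1d44700ce4a6400005693c20cab2b03225959000015a599562b84100c9f66000005696c5ecab0a85245a58000015a59852018bc00c1da5c00005696bdd4aaea05286357000015a5974e017b900b9c25800005696b1b4aac9802d6e56000015a5964a0163500ada05400005680a998052c85154814000015a02860013af9451184c00005680997404ab65134412000015a02457011aa9449084400005680894c042a25114010000015a0204f00fa69440f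83c00005680792c03a9250f3c8b000015a094392a59c00711d280000569628d8aaa7401b4549000015a589320291980690e20000056964cd0a90600194145000015a5852c028168060fe100000569644b8a88540173d42000015a58226021938058ee00000056821c88a80421ce248c000015a40c1c2a60d9918782c000056803468a9a3a50b198a000015a015372a50b80306024000056802c580286a5091548000015a58813009988028501c0000568048bc012245071146000015a5860f2a7118020410000005696003400e1c50d1f44000015a5840a0089598142c0c0000568040a400a125030881000015a58f282a08300101d0400005696040c01e4a5c20400000015a00305001011400040000005680388000c1800100))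

end Cfsg.Agent.Lib.CosetCert.D.OnM11.Lv0.CT
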